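import Groth.Prelude.Def_WeakSerre
import Mathlib.Algebra.Homology.DerivedCategory.ExactFunctor
import Mathlib.Algebra.Homology.DerivedCategory.TStructure
import Mathlib.Algebra.Homology.DerivedCategory.HomologySequence
import Mathlib.Algebra.Homology.SingleHomology
import Mathlib.CategoryTheory.Triangulated.Adjunction
import Mathlib.CategoryTheory.Triangulated.TStructure.TruncLTGE

/-!
Way-out arguments in derived categories: dévissage of bounded objects to their cohomology objects,
approximation of bounded below objects by bounded ones, units and counits of an adjunction whose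
left adjoint comes from an exact functor.
-/

set_option autoImplicit false
set_option linter.style.haveILetI false
universe w w' v v' u u'

namespace Groth.Agent.WayOut

open CategoryTheory Limits Pretriangulated DerivedCategory ZeroObject

variable {A : Type u} [Category.{v} A] [Abelian A] [HasDerivedCategory.{w} A]
  {B : Type u'} [Category.{v'} B] [Abelian B] [HasDerivedCategory.{w'} B]

/-- `Hn A i X` is the cohomology object in degree `i` -/
noncomputable abbrev Hn (i : ℤ) (X : DerivedCategory A) : A :=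
  (DerivedCategory.homologyFunctor A i).obj X

/-- an object in degree zero -/
noncomputable abbrev sgl (M : A) : DerivedCategory A := (DerivedCategory.singleFunctor A 0).obj M

/-- homology of a single object -/
noncomputable def singleHomologyIso (M : A) (n : ℤ) :
    Hn n ((DerivedCategory.singleFunctor A n).obj M) ≅ M :=
  (homologyFunctorFactors A n).app _ ≪≫
    HomologicalComplex.singleObjHomologySelfIso (ComplexShape.up ℤ) n M

/-- a property of objects stable under isomorphisms, shifts and extensions -/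
structure Stable (P : DerivedCategory A → Prop) : Prop where
  iso : ∀ {X Y : DerivedCategory A}, (X ≅ Y) → P X → P Y
  shift : ∀ {X : DerivedCategory A} (n : ℤ), P X → P (X⟦n⟧)
  zero : ∀ {X : DerivedCategory A}, IsZero X → P X
  ext : ∀ (T : Triangle (DerivedCategory A)), T ∈ distTriang (DerivedCategory A) →
    P T.obj₁ → P T.obj₃ → P T.obj₂

lemma isIso_H_mor₁ (T : Triangle (DerivedCategory A)) (hT : T ∈ distTriang (DerivedCategory A))
    (m i : ℤ) (hB : T.obj₃.IsGE m) (hi : i < m) :
    IsIso ((DerivedCategory.homologyFunctor A i).map T.mor₁) := by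
  have : Mono ((DerivedCategory.homologyFunctor A i).map T.mor₁) :=
    (HomologySequence.exact₁ T hT (i - 1) i).mono_g
      ((isZero_of_isGE T.obj₃ m (i - 1) (by lia)).eq_of_src _ _)
  have : Epi ((DerivedCategory.homologyFunctor A i).map T.mor₁) :=
    (HomologySequence.exact₂ T hT i).epi_f
      ((isZero_of_isGE T.obj₃ m i hi).eq_of_tgt _ _)
  exact isIso_of_mono_of_epi _

lemma stable_of_bounded {P : DerivedCategory A → Prop} (hP : Stable P) (k : ℕ) :
    ∀ (X : DerivedCategory A) (a b : ℤ), b + 1 ≤ a + k → X.IsGE a → X.IsLE b →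
      (∀ i, P (sgl (Hn i X))) → P X := by
  induction k with
  | zero =>
    intro X a b hk ha hb _
    exact hP.zero (TStructure.t.isZero X b a (by lia))
  | succ k ih =>
    intro X a b hk ha hb h
    by_cases hab : b < a
    · exact hP.zero (TStructure.t.isZero X b a hab)
    obtain ⟨U, V, hU, hV, f, g, δ, hT⟩ := TStructure.t.exists_triangle X (b - 1) b (by lia)
    have hU' : U.IsLE (b - 1) := ⟨hU⟩
    have hV' : V.IsGE b := ⟨hV⟩
    let T := Triangle.mk f g δ
    have hz : ∀ i, b - 1 < i → IsZero (Hn i U) := fun i hi => isZero_of_isLE U (b - 1) i hi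
    have hVle : V.IsLE b := by
      rw [isLE_iff]
      intro i hi
      exact (HomologySequence.exact₃ T hT i (i + 1)).isZero_of_both_zeros
        ((isZero_of_isLE X b i hi).eq_of_src _ _) ((hz (i + 1) (by lia)).eq_of_tgt _ _)
    have e : Hn b X ≅ Hn b V := by
      have : Epi ((DerivedCategory.homologyFunctor A b).map g) :=
        (HomologySequence.exact₃ T hT b (b + 1)).epi_f ((hz (b + 1) (by lia)).eq_of_tgt _ _)
      have : Mono ((DerivedCategory.homologyFunctor A b).map g) :=
        (HomologySequence.exact₂ T hT b).mono_g ((hz b (by lia)).eq_of_src _ _)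
      have : IsIso ((DerivedCategory.homologyFunctor A b).map g) := isIso_of_mono_of_epi _
      exact asIso ((DerivedCategory.homologyFunctor A b).map g)
    have hVP : P V := by
      obtain ⟨Y, ⟨eY⟩⟩ := exists_iso_singleFunctor_obj_of_isGE_of_isLE V b
      let e' : Hn b X ≅ Y := e ≪≫ (DerivedCategory.homologyFunctor A b).mapIso eY ≪≫
        singleHomologyIso Y b
      exact hP.iso (((DerivedCategory.singleFunctors A).shiftIso (-b) b 0 (by lia)).app Y ≪≫ eY.symm)
        (hP.shift (-b) (hP.iso ((DerivedCategory.singleFunctor A 0).mapIso e') (h b)))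
    have hUge : U.IsGE a := by
      rw [isGE_iff]
      intro i hi
      haveI : IsIso ((DerivedCategory.homologyFunctor A i).map f) :=
        isIso_H_mor₁ T hT b i hV' (by lia)
      exact (isZero_of_isGE X a i hi).of_iso (asIso ((DerivedCategory.homologyFunctor A i).map f))
    have hUH : ∀ i, P (sgl (Hn i U)) := by
      intro i
      by_cases hi : i < b
      · haveI : IsIso ((DerivedCategory.homologyFunctor A i).map f) :=
          isIso_H_mor₁ T hT b i hV' hi
        exact hP.iso ((DerivedCategory.singleFunctor A 0).mapIso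
          (asIso ((DerivedCategory.homologyFunctor A i).map f)).symm) (h i)
      · exact hP.zero ((DerivedCategory.singleFunctor A 0).map_isZero (hz i (by lia)))
    exact hP.ext T hT (ih U a (b - 1) (by lia) hUge hU' hUH) hVP

/-- the functor preserves `≥ n` for all `n` -/
def PreservesGE (Φ : DerivedCategory A ⥤ DerivedCategory B) : Prop :=
  ∀ (X : DerivedCategory A) (n : ℤ), X.IsGE n → (Φ.obj X).IsGE n

lemma preservesGE_id : PreservesGE (𝟭 (DerivedCategory A)) := fun _ _ h => h

lemma isIso_H_map_of_isGE (Φ : DerivedCategory A ⥤ DerivedCategory B) [Φ.CommShift ℤ]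
    [Φ.IsTriangulated] (hΦ : PreservesGE Φ) (T : Triangle (DerivedCategory A))
    (hT : T ∈ distTriang (DerivedCategory A)) (m i : ℤ) (hB : T.obj₃.IsGE m) (hi : i < m) :
    IsIso ((DerivedCategory.homologyFunctor B i).map (Φ.map T.mor₁)) :=
  isIso_H_mor₁ _ (Φ.map_distinguished _ hT) m i (hΦ _ _ hB) hi

/-- bounded approximation of a bounded below object, good up to degree `q` -/
lemma exists_bounded_approx {P : A → Prop} (hP0 : ∀ {M : A}, IsZero M → P M)
    (hPiso : ∀ {M N : A}, (M ≅ N) → P M → P N) (X : DerivedCategory A) (a : ℤ) (ha : X.IsGE a)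
    (q : ℤ) (h : ∀ i, P (Hn i X)) :
    ∃ (T : Triangle (DerivedCategory A)), T ∈ distTriang (DerivedCategory A) ∧ T.obj₂ = X ∧
      T.obj₁.IsGE a ∧ (∃ b, T.obj₁.IsLE b) ∧ T.obj₃.IsGE (q + 1) ∧
        ∀ i, P (Hn i T.obj₁) := by
  obtain ⟨U, V, hU, hV, f, g, δ, hT⟩ := TStructure.t.exists_triangle X q (q + 1) rfl
  have hU' : U.IsLE q := ⟨hU⟩
  have hV' : V.IsGE (q + 1) := ⟨hV⟩
  refine ⟨_, hT, rfl, ?_, ⟨q, hU'⟩, hV', fun i => ?_⟩
  · show U.IsGE a
    rw [isGE_iff]
    intro i hi
    by_cases hiq : i < q + 1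
    · haveI : IsIso ((DerivedCategory.homologyFunctor A i).map f) :=
        isIso_H_mor₁ _ hT (q + 1) i hV' hiq
      exact (isZero_of_isGE X a i hi).of_iso (asIso ((DerivedCategory.homologyFunctor A i).map f))
    · exact isZero_of_isLE U q i (by lia)
  · show P (Hn i U)
    by_cases hiq : i < q + 1
    · haveI : IsIso ((DerivedCategory.homologyFunctor A i).map f) :=
        isIso_H_mor₁ _ hT (q + 1) i hV' hiq
      exact hPiso (asIso ((DerivedCategory.homologyFunctor A i).map f)).symm (h i)
    · exact hP0 (isZero_of_isLE U q i (by lia))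

section natTrans

variable {Φ Ψ : DerivedCategory A ⥤ DerivedCategory B} [Φ.CommShift ℤ] [Ψ.CommShift ℤ]
  [Φ.IsTriangulated] [Ψ.IsTriangulated] (η : Φ ⟶ Ψ) [NatTrans.CommShift η ℤ]

lemma stable_isIso_app : Stable fun X => IsIso (η.app X) where
  iso {X Y} e _ := (NatTrans.isIso_app_iff_of_iso η e).1 inferInstance
  shift {X} n _ := by
    rw [NatTrans.app_shift]
    infer_instance
  zero h := by
    exact ⟨0, (Φ.map_isZero h).eq_of_src _ _, (Ψ.map_isZero h).eq_of_src _ _⟩
  ext T hT h₁ h₃ := by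
    let φ : Φ.mapTriangle.obj T ⟶ Ψ.mapTriangle.obj T :=
      Triangle.homMk _ _ (η.app _) (η.app _) (η.app _) (η.naturality _) (η.naturality _) (by
        change (Φ.map T.mor₃ ≫ (Φ.commShiftIso (1 : ℤ)).hom.app T.obj₁) ≫
            (η.app T.obj₁)⟦(1 : ℤ)⟧' =
          η.app T.obj₃ ≫ Ψ.map T.mor₃ ≫ (Ψ.commShiftIso (1 : ℤ)).hom.app T.obj₁
        rw [Category.assoc, NatTrans.shift_app_comm, η.naturality_assoc])
    exact isIso₂_of_isIso₁₃ φ (Φ.map_distinguished _ hT) (Ψ.map_distinguished _ hT) h₁ h₃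

lemma isIso_app_of_boundedBelow (hΦ : PreservesGE Φ) (hΨ : PreservesGE Ψ) (X : DerivedCategory A)
    (a : ℤ) (ha : X.IsGE a) (h : ∀ i, IsIso (η.app (sgl (Hn i X)))) : IsIso (η.app X) := by
  rw [DerivedCategory.isIso_iff]
  intro q
  obtain ⟨T, hT, rfl, ha', ⟨b, hb⟩, hV, hH⟩ := exists_bounded_approx
    (P := fun M => IsIso (η.app (sgl M)))
    (fun hM => (stable_isIso_app η).zero ((DerivedCategory.singleFunctor A 0).map_isZero hM))
    (fun e hM => (stable_isIso_app η).iso ((DerivedCategory.singleFunctor A 0).mapIso e) hM)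
    X a ha q h
  have : IsIso (η.app T.obj₁) :=
    stable_of_bounded (stable_isIso_app η) (b + 1 - a).toNat T.obj₁ a b (by lia) ha' hb hH
  have := isIso_H_map_of_isGE Φ hΦ T hT (q + 1) q hV (by lia)
  have := isIso_H_map_of_isGE Ψ hΨ T hT (q + 1) q hV (by lia)
  have heq := congrArg (DerivedCategory.homologyFunctor B q).map (η.naturality T.mor₁)
  rw [Functor.map_comp, Functor.map_comp] at heq
  have : IsIso ((DerivedCategory.homologyFunctor B q).map (Φ.map T.mor₁) ≫
      (DerivedCategory.homologyFunctor B q).map (η.app T.obj₂)) := heq ▸ inferInstance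
  exact IsIso.of_isIso_comp_left ((DerivedCategory.homologyFunctor B q).map (Φ.map T.mor₁)) _

end natTrans

section weakSerre

lemma prop_of_exact₅ (P : ObjectProperty A) [WSerre.IsWeakSerre P] {X₁ X₂ X₃ X₄ X₅ : A}
    (f₁ : X₁ ⟶ X₂) (f₂ : X₂ ⟶ X₃) (f₃ : X₃ ⟶ X₄) (f₄ : X₄ ⟶ X₅)
    (w₁ : f₁ ≫ f₂ = 0) (w₂ : f₂ ≫ f₃ = 0) (w₃ : f₃ ≫ f₄ = 0)
    (e₁ : (ShortComplex.mk f₁ f₂ w₁).Exact) (e₂ : (ShortComplex.mk f₂ f₃ w₂).Exact)
    (e₃ : (ShortComplex.mk f₃ f₄ w₃).Exact) (h₁ : P X₁) (h₂ : P X₂) (h₄ : P X₄) (h₅ : P X₅) :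
    P X₃ := by
  let S : ShortComplex A := ShortComplex.mk (cokernel.desc f₁ f₂ w₁) (kernel.lift f₄ f₃ w₃) (by
    ext; simp [w₂])
  let S' : ShortComplex A := ShortComplex.mk (cokernel.desc f₁ f₂ w₁) f₃ (by ext; simp [w₂])
  have hS' : S'.Exact := by
    let φ : ShortComplex.mk f₂ f₃ w₂ ⟶ S' :=
      { τ₁ := cokernel.π f₁, τ₂ := 𝟙 _, τ₃ := 𝟙 _,
        comm₁₂ := by simp [S'], comm₂₃ := by simp [S'] }
    exact (ShortComplex.exact_iff_of_epi_of_isIso_of_mono φ).1 e₂
  have hS : S.ShortExact :=
    { exact := by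
        let φ : S ⟶ S' :=
          { τ₁ := 𝟙 _, τ₂ := 𝟙 _, τ₃ := kernel.ι f₄,
            comm₁₂ := by simp [S, S'], comm₂₃ := by simp [S, S'] }
        exact (ShortComplex.exact_iff_of_epi_of_isIso_of_mono φ).2 hS'
      mono_f := e₁.mono_cokernelDesc
      epi_g := e₃.epi_kernelLift }
  exact P.prop_X₂_of_shortExact hS (P.prop_cokernel f₁ h₁ h₂) (P.prop_kernel f₄ h₄ h₅)

lemma stable_cohIn (P : ObjectProperty A) [WSerre.IsWeakSerre P] : Stable (WSerre.cohIn P) where
  iso {X Y} e h i := P.prop_of_iso ((DerivedCategory.homologyFunctor A i).mapIso e) (h i)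
  shift {X} n h i :=
    P.prop_of_iso
      (((DerivedCategory.homologyFunctor A 0).shiftIso n i (n + i) rfl).app X).symm (h (n + i))
  zero h i := by
    obtain ⟨Z, hZ, hPZ⟩ := P.exists_prop_of_containsZero
    exact P.prop_of_iso (hZ.iso ((DerivedCategory.homologyFunctor A i).map_isZero h)) hPZ
  ext T hT h₁ h₃ i :=
    prop_of_exact₅ P _ _ _ _ _ _ _ (HomologySequence.exact₁ T hT (i - 1) i)
      (HomologySequence.exact₂ T hT i) (HomologySequence.exact₃ T hT i (i + 1))
      (h₃ (i - 1)) (h₁ i) (h₃ i) (h₁ (i + 1))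

lemma Stable.comap {Φ : DerivedCategory A ⥤ DerivedCategory B} [Φ.CommShift ℤ] [Φ.IsTriangulated]
    {P : DerivedCategory B → Prop} (hP : Stable P) : Stable fun X => P (Φ.obj X) where
  iso e h := hP.iso (Φ.mapIso e) h
  shift {X} n h := hP.iso ((Φ.commShiftIso n).app X).symm (hP.shift n h)
  zero h := hP.zero (Φ.map_isZero h)
  ext T hT h₁ h₃ := hP.ext _ (Φ.map_distinguished _ hT) h₁ h₃

lemma cohIn_of_boundedBelow (Φ : DerivedCategory A ⥤ DerivedCategory B) [Φ.CommShift ℤ]
    [Φ.IsTriangulated] (hΦ : PreservesGE Φ) (P : ObjectProperty B) [WSerre.IsWeakSerre P]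
    (X : DerivedCategory A) (a : ℤ) (ha : X.IsGE a)
    (h : ∀ i, WSerre.cohIn P (Φ.obj (sgl (Hn i X)))) : WSerre.cohIn P (Φ.obj X) := by
  intro q
  have hst := (stable_cohIn P).comap (Φ := Φ)
  obtain ⟨T, hT, rfl, ha', ⟨b, hb⟩, hV, hH⟩ := exists_bounded_approx
    (P := fun M => WSerre.cohIn P (Φ.obj (sgl M)))
    (fun hM => hst.zero ((DerivedCategory.singleFunctor A 0).map_isZero hM))
    (fun e hM => hst.iso ((DerivedCategory.singleFunctor A 0).mapIso e) hM) X a ha q h
  have := isIso_H_map_of_isGE Φ hΦ T hT (q + 1) q hV (by lia)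
  exact P.prop_of_iso (asIso ((DerivedCategory.homologyFunctor B q).map (Φ.map T.mor₁)))
    (stable_of_bounded hst (b + 1 - a).toNat T.obj₁ a b (by lia) ha' hb hH q)

end weakSerre

section adjunction

variable (F : A ⥤ B) [F.Additive] [PreservesFiniteLimits F] [PreservesFiniteColimits F]

/-- homology of the derived functor of an exact functor -/
noncomputable def mapDerivedHomologyIso (X : DerivedCategory A) (n : ℤ) :
    Hn n (F.mapDerivedCategory.obj X) ≅ F.obj (Hn n X) :=
  let K := DerivedCategory.Q.objPreimage X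
  let eX := DerivedCategory.Q.objObjPreimageIso X
  (DerivedCategory.homologyFunctor B n).mapIso
      (F.mapDerivedCategory.mapIso eX.symm ≪≫ F.mapDerivedCategoryFactors.app K) ≪≫
    (homologyFunctorFactors B n).app _ ≪≫ (K.sc n).mapHomologyIso F ≪≫
      F.mapIso (((homologyFunctorFactors A n).app K).symm ≪≫
        (DerivedCategory.homologyFunctor A n).mapIso eX)

lemma preservesGE_mapDerived : PreservesGE F.mapDerivedCategory := fun X n h => by
  rw [isGE_iff]
  intro i hi
  exact (F.map_isZero (isZero_of_isGE X n i hi)).of_iso (mapDerivedHomologyIso F X i)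

lemma isLE_mapDerived (X : DerivedCategory A) (n : ℤ) (h : X.IsLE n) :
    (F.mapDerivedCategory.obj X).IsLE n := by
  rw [isLE_iff]
  intro i hi
  exact (F.map_isZero (isZero_of_isLE X n i hi)).of_iso (mapDerivedHomologyIso F X i)

variable {F} {G : DerivedCategory B ⥤ DerivedCategory A} (adj : F.mapDerivedCategory ⊣ G)
include adj

lemma preservesGE_right : PreservesGE G := fun X n h => by
  have : TStructure.t.IsGE X n := h
  show TStructure.t.IsGE _ n
  rw [TStructure.t.isGE_iff_orthogonal (n - 1) n (by lia)]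
  intro Z f hZ
  have := isLE_mapDerived F Z (n - 1) hZ
  exact (adj.homEquiv Z X).symm.injective
    ((TStructure.t.zero _ (n - 1) n (by lia)).trans (TStructure.t.zero _ (n - 1) n (by lia)).symm)

theorem isIso_counit_app (X : DerivedCategory B) (a : ℤ) (ha : X.IsGE a)
    (h : ∀ i, IsIso (adj.counit.app (sgl (Hn i X)))) : IsIso (adj.counit.app X) := by
  letI := adj.rightAdjointCommShift ℤ
  haveI := adj.commShift_of_leftAdjoint ℤ
  haveI := adj.isTriangulated_rightAdjoint
  exact isIso_app_of_boundedBelow adj.counit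
    (fun Y n hY => preservesGE_mapDerived F _ n (preservesGE_right adj Y n hY))
    preservesGE_id X a ha h

theorem isIso_unit_app (Y : DerivedCategory A) (a : ℤ) (ha : Y.IsGE a)
    (h : ∀ i, IsIso (adj.unit.app (sgl (Hn i Y)))) : IsIso (adj.unit.app Y) := by
  letI := adj.rightAdjointCommShift ℤ
  haveI := adj.commShift_of_leftAdjoint ℤ
  haveI := adj.isTriangulated_rightAdjoint
  exact isIso_app_of_boundedBelow adj.unit preservesGE_id
    (fun Z n hZ => preservesGE_right adj _ n (preservesGE_mapDerived F Z n hZ)) Y a ha h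

theorem equivalence_cohInPlus (P : ObjectProperty B) [WSerre.IsWeakSerre P]
    (P' : ObjectProperty A) [WSerre.IsWeakSerre P'] (h2a : ∀ M, P' M → P (F.obj M))
    (h2c : ∀ N, P N → ∃ M, P' M ∧ Nonempty (F.obj M ≅ N))
    (h3 : ∀ M, P' M → IsIso (adj.unit.app (sgl M))) :
    (∀ Y, WSerre.cohInPlus P' Y →
        WSerre.cohInPlus P (F.mapDerivedCategory.obj Y) ∧ IsIso (adj.unit.app Y)) ∧
    (∀ X, WSerre.cohInPlus P X →
        WSerre.cohInPlus P' (G.obj X) ∧ IsIso (adj.counit.app X)) := by
  constructor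
  · rintro Y ⟨hY, a, ha⟩
    exact ⟨⟨fun i => P.prop_of_iso (mapDerivedHomologyIso F Y i).symm (h2a _ (hY i)),
      a, preservesGE_mapDerived F Y a ha⟩, isIso_unit_app adj Y a ha fun i => h3 _ (hY i)⟩
  · rintro X ⟨hX, a, ha⟩
    letI := adj.rightAdjointCommShift ℤ
    haveI := adj.commShift_of_leftAdjoint ℤ
    haveI := adj.isTriangulated_rightAdjoint
    have key : ∀ N, P N → ∃ M, P' M ∧ IsIso (adj.counit.app (sgl N)) ∧
        Nonempty (G.obj (sgl N) ≅ sgl M) := by
      intro N hN
      obtain ⟨M, hM, ⟨e⟩⟩ := h2c N hN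
      haveI := h3 M hM
      let e' : F.mapDerivedCategory.obj (sgl M) ≅ sgl N :=
        (F.mapDerivedCategorySingleFunctor 0).app M ≪≫
          (DerivedCategory.singleFunctor B 0).mapIso e
      have : IsIso (adj.counit.app (F.mapDerivedCategory.obj (sgl M))) := by
        have h := adj.left_triangle_components (sgl M)
        exact IsIso.of_isIso_fac_left h
      exact ⟨M, hM, (NatTrans.isIso_app_iff_of_iso adj.counit e').1 this,
        ⟨G.mapIso e'.symm ≪≫ (asIso (adj.unit.app (sgl M))).symm⟩⟩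
    refine ⟨⟨cohIn_of_boundedBelow G (preservesGE_right adj) P' X a ha fun i => ?_,
      a, preservesGE_right adj X a ha⟩, isIso_counit_app adj X a ha fun i => ?_⟩
    · obtain ⟨M, hM, -, ⟨e⟩⟩ := key _ (hX i)
      refine (stable_cohIn P').iso e.symm fun j => ?_
      by_cases hj : j = 0
      · subst hj
        exact P'.prop_of_iso (singleHomologyIso M 0).symm hM
      · obtain ⟨Z, hZ, hPZ⟩ := P'.exists_prop_of_containsZero
        refine P'.prop_of_iso (hZ.iso ?_) hPZ
        rcases lt_or_gt_of_ne hj with hlt | hgt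
        · exact isZero_of_isGE _ 0 _ hlt
        · exact isZero_of_isLE _ 0 _ hgt
    · obtain ⟨M, -, h, -⟩ := key _ (hX i)
      exact h

end adjunction

end Groth.Agent.WayOut
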