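import Groth.Agent.WayOut.Basic

/-!
Dévissage: fully faithfulness and essential image on bounded objects.
-/

set_option autoImplicit false
set_option linter.style.haveILetI false
set_option backward.isDefEq.respectTransparency false
set_option backward.isDefEq.respectTransparency.types false

universe w w' v v' u u'

open CategoryTheory Category Limits Pretriangulated DerivedCategory
open scoped ZeroObject

namespace Groth.Agent.WayOut

variable {A : Type u} [Category.{v} A] [Abelian A] [HasDerivedCategory.{w} A]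
  {B : Type u'} [Category.{v'} B] [Abelian B] [HasDerivedCategory.{w'} B]
  (Φ : DerivedCategory A ⥤ DerivedCategory B)

/-- `Φ` is bijective on maps from `X` to `Y` -/
def Bij (X Y : DerivedCategory A) : Prop :=
  Function.Bijective (Φ.map : (X ⟶ Y) → _)

lemma Bij.of_iso {X X' Y Y' : DerivedCategory A} (e : X ≅ X') (e' : Y ≅ Y') (h : Bij Φ X Y) :
    Bij Φ X' Y' := by
  refine ⟨fun a b hab => ?_, fun c => ?_⟩
  · have := h.1 (a₁ := e.hom ≫ a ≫ e'.inv) (a₂ := e.hom ≫ b ≫ e'.inv) (by simp [hab])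
    simpa using this
  · obtain ⟨a, ha⟩ := h.2 (Φ.map e.hom ≫ c ≫ Φ.map e'.inv)
    refine ⟨e.inv ≫ a ≫ e'.hom, ?_⟩
    rw [Functor.map_comp, Functor.map_comp, ha]
    simp only [assoc]
    rw [← Functor.map_comp_assoc, Iso.inv_hom_id, CategoryTheory.Functor.map_id, id_comp, ← Functor.map_comp,
      Iso.inv_hom_id, CategoryTheory.Functor.map_id, comp_id]

variable [Φ.CommShift ℤ] [Φ.IsTriangulated]

lemma bij_target {X : DerivedCategory A} (T : Triangle (DerivedCategory A))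
    (hT : T ∈ distTriang (DerivedCategory A)) (h₁ : Bij Φ X T.obj₁) (h₃ : Bij Φ X T.obj₃)
    (h₁' : Bij Φ X (T.obj₁⟦(1 : ℤ)⟧)) (h₃' : Bij Φ X (T.obj₃⟦(-1 : ℤ)⟧)) : Bij Φ X T.obj₂ := by
  have hT' := Φ.map_distinguished _ hT
  refine ⟨fun a b hab => sub_eq_zero.1 ?_, fun y => ?_⟩
  · have h0 : Φ.map (a - b) = 0 := by rw [Functor.map_sub, hab, sub_self]
    obtain ⟨w, hw⟩ := Triangle.coyoneda_exact₂ _ hT (a - b)
      (h₃.1 (by rw [Functor.map_comp, h0, zero_comp, Functor.map_zero]))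
    obtain ⟨v, hv⟩ := Triangle.coyoneda_exact₂ _ (Φ.map_distinguished _ (inv_rot_of_distTriang _ hT)) (Φ.map w) (by
      change Φ.map w ≫ Φ.map T.mor₁ = 0
      rw [← Functor.map_comp, ← hw, h0])
    obtain ⟨v₀, rfl⟩ := h₃'.2 v
    have hwv : w = v₀ ≫ T.invRotate.mor₁ := h₁.1 (by rw [hv, Functor.map_comp]; rfl)
    rw [hw, hwv, assoc]
    exact (congrArg (v₀ ≫ ·) (comp_distTriang_mor_zero₁₂ _ (inv_rot_of_distTriang _ hT))).trans comp_zero
  · obtain ⟨a, ha⟩ := h₃.2 (y ≫ Φ.map T.mor₂)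
    obtain ⟨b, hb⟩ := Triangle.coyoneda_exact₃ _ hT a (h₁'.1 (by
      rw [Functor.map_comp, ha, assoc, ← Functor.map_comp, comp_distTriang_mor_zero₂₃ _ hT, Functor.map_zero,
        comp_zero, Functor.map_zero]))
    obtain ⟨c, hc⟩ := Triangle.coyoneda_exact₂ _ hT' (y - Φ.map b) (by
      change (y - Φ.map b) ≫ Φ.map T.mor₂ = 0
      rw [Preadditive.sub_comp, ← Functor.map_comp, ← hb, ha, sub_self])
    obtain ⟨d, rfl⟩ := h₁.2 c
    refine ⟨b + d ≫ T.mor₁, ?_⟩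
    rw [Functor.map_add, Functor.map_comp]
    exact (add_eq_of_eq_sub' hc.symm)

lemma bij_source {Y : DerivedCategory A} (T : Triangle (DerivedCategory A))
    (hT : T ∈ distTriang (DerivedCategory A)) (h₁ : Bij Φ T.obj₁ Y) (h₃ : Bij Φ T.obj₃ Y)
    (h₁' : Bij Φ (T.obj₁⟦(1 : ℤ)⟧) Y) (h₃' : Bij Φ (T.obj₃⟦(-1 : ℤ)⟧) Y) : Bij Φ T.obj₂ Y := by
  have hT' := Φ.map_distinguished _ hT
  refine ⟨fun a b hab => sub_eq_zero.1 ?_, fun y => ?_⟩
  · have h0 : Φ.map (a - b) = 0 := by rw [Functor.map_sub, hab, sub_self]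
    obtain ⟨w, hw⟩ := Triangle.yoneda_exact₂ _ hT (a - b)
      (h₁.1 (by rw [Functor.map_comp, h0, comp_zero, Functor.map_zero]))
    obtain ⟨v, hv⟩ := Triangle.yoneda_exact₃ _ hT' (Φ.map w) (by
      change Φ.map T.mor₂ ≫ Φ.map w = 0
      rw [← Functor.map_comp, ← hw, h0])
    obtain ⟨v₀, hv₀⟩ := h₁'.2 ((Φ.commShiftIso (1 : ℤ)).hom.app T.obj₁ ≫ v)
    have hwv : w = T.mor₃ ≫ v₀ := h₃.1 (by
      rw [hv, Functor.map_comp, hv₀]
      change (Φ.map T.mor₃ ≫ (Φ.commShiftIso (1 : ℤ)).hom.app T.obj₁) ≫ v = _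
      exact assoc _ _ _)
    rw [hw, hwv, ← assoc, comp_distTriang_mor_zero₂₃ _ hT, zero_comp]
  · obtain ⟨a, ha⟩ := h₁.2 (Φ.map T.mor₁ ≫ y)
    obtain ⟨b₀, hb⟩ := Triangle.yoneda_exact₂ _ (inv_rot_of_distTriang _ hT) a (h₃'.1 (by
      rw [Functor.map_comp, ha, ← assoc, ← Functor.map_comp]
      rw [Functor.map_zero]
      convert zero_comp
      exact (congrArg Φ.map (comp_distTriang_mor_zero₁₂ _ (inv_rot_of_distTriang _ hT))).trans
        (Functor.map_zero _ _ _)))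
    let b : T.obj₂ ⟶ Y := b₀
    change a = T.mor₁ ≫ b at hb
    obtain ⟨c, hc⟩ := Triangle.yoneda_exact₂ _ hT' (y - Φ.map b) (by
      change Φ.map T.mor₁ ≫ (y - Φ.map b) = 0
      rw [Preadditive.comp_sub, ← Functor.map_comp, ← hb, ha, sub_self])
    obtain ⟨d, rfl⟩ := h₃.2 c
    refine ⟨b + T.mor₂ ≫ d, ?_⟩
    rw [Functor.map_add, Functor.map_comp]
    exact (add_eq_of_eq_sub' hc.symm)

lemma stable_bij_target (X : DerivedCategory A) : Stable fun Y => ∀ n : ℤ, Bij Φ X (Y⟦n⟧) where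
  iso e h n := (h n).of_iso Φ (Iso.refl X) ((shiftFunctor _ n).mapIso e)
  shift {Y} m h n := (h (m + n)).of_iso Φ (Iso.refl X) ((shiftFunctorAdd (DerivedCategory A) m n).app Y)
  zero {Y} hY n := by
    have h0 := (shiftFunctor (DerivedCategory A) n).map_isZero hY
    exact ⟨fun a b _ => h0.eq_of_tgt a b, fun c => ⟨0, (Φ.map_isZero h0).eq_of_tgt _ _⟩⟩
  ext T hT h₁ h₃ n := by
    refine bij_target Φ _ (Triangle.shift_distinguished _ hT n) (h₁ n) (h₃ n) ?_ ?_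
    · exact (h₁ (n + 1)).of_iso Φ (Iso.refl X) ((shiftFunctorAdd' (DerivedCategory A) n 1 (n + 1) rfl).app _)
    · exact (h₃ (n + -1)).of_iso Φ (Iso.refl X)
        ((shiftFunctorAdd' (DerivedCategory A) n (-1) (n + -1) rfl).app _)

lemma stable_bij_source (Y : DerivedCategory A) : Stable fun X => ∀ n : ℤ, Bij Φ (X⟦n⟧) Y where
  iso e h n := (h n).of_iso Φ ((shiftFunctor _ n).mapIso e) (Iso.refl Y)
  shift {X} m h n := (h (m + n)).of_iso Φ ((shiftFunctorAdd (DerivedCategory A) m n).app X) (Iso.refl Y)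
  zero {X} hX n := by
    have h0 := (shiftFunctor (DerivedCategory A) n).map_isZero hX
    exact ⟨fun a b _ => h0.eq_of_src a b, fun c => ⟨0, (Φ.map_isZero h0).eq_of_src _ _⟩⟩
  ext T hT h₁ h₃ n := by
    refine bij_source Φ _ (Triangle.shift_distinguished _ hT n) (h₁ n) (h₃ n) ?_ ?_
    · exact (h₁ (n + 1)).of_iso Φ ((shiftFunctorAdd' (DerivedCategory A) n 1 (n + 1) rfl).app _) (Iso.refl Y)
    · exact (h₃ (n + -1)).of_iso Φ
        ((shiftFunctorAdd' (DerivedCategory A) n (-1) (n + -1) rfl).app _) (Iso.refl Y)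

variable (P : ObjectProperty A) [WSerre.IsWeakSerre P]

/-- fully faithful on bounded objects if it is so on objects in degree zero -/
theorem bij_of_bounded (h : ∀ M N : A, P M → P N → ∀ n : ℤ, Bij Φ (sgl M) ((sgl N)⟦n⟧))
    {K L : DerivedCategory A} (hK : WSerre.cohInBdd P K) (hL : WSerre.cohInBdd P L) : Bij Φ K L := by
  obtain ⟨hK₀, ⟨a, ha⟩, ⟨b, hb⟩⟩ := hK
  obtain ⟨hL₀, ⟨a', ha'⟩, ⟨b', hb'⟩⟩ := hL
  have key : ∀ n : ℤ, Bij Φ (K⟦n⟧) L := by
    refine stable_of_bounded (stable_bij_source Φ L) (b + 1 - a).toNat K a b (by omega) ha hb fun i n => ?_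
    have h2 : ∀ m : ℤ, Bij Φ (sgl (Hn i K)) (L⟦m⟧) :=
      stable_of_bounded (stable_bij_target Φ _) (b' + 1 - a').toNat L a' b' (by omega) ha' hb'
        fun i' => h _ _ (hK₀ i) (hL₀ i')
    refine ⟨fun x y hxy => (shiftFunctor (DerivedCategory A) (-n)).map_injective ?_, fun c => ?_⟩
    · let e := (shiftFunctorCompIsoId (DerivedCategory A) n (-n) (by omega)).app (sgl (Hn i K))
      refine (cancel_epi e.inv).1 ((h2 (-n)).1 ?_)
      rw [Functor.map_comp, Functor.map_comp]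
      refine congrArg (_ ≫ ·) ((cancel_mono ((Φ.commShiftIso (-n)).hom.app L)).1 ?_)
      have := fun z : (sgl (Hn i K))⟦n⟧ ⟶ L => (Φ.commShiftIso (-n)).hom.naturality z
      dsimp at this
      erw [this, this, hxy]
    · let e := (shiftFunctorCompIsoId (DerivedCategory A) n (-n) (by omega)).app (sgl (Hn i K))
      obtain ⟨z, hz⟩ := (h2 (-n)).2 (Φ.map e.inv ≫ (Φ.commShiftIso (-n)).hom.app _ ≫ c⟦-n⟧' ≫
        (Φ.commShiftIso (-n)).inv.app L)
      obtain ⟨x, hx⟩ := (shiftFunctor (DerivedCategory A) (-n)).map_surjective (e.hom ≫ z)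
      refine ⟨x, (shiftFunctor (DerivedCategory B) (-n)).map_injective ?_⟩
      have hn := (Φ.commShiftIso (-n)).hom.naturality x
      dsimp at hn
      rw [← cancel_epi ((Φ.commShiftIso (-n)).hom.app ((sgl (Hn i K))⟦n⟧))]
      erw [← hn]
      rw [hx, Functor.map_comp, hz]
      simp [← Functor.map_comp_assoc]
  exact (key 0).of_iso Φ ((shiftFunctorZero (DerivedCategory A) ℤ).app K) (Iso.refl L)

lemma stable_cohInBdd : Stable (WSerre.cohInBdd P) where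
  iso e h := ⟨(stable_cohIn P).iso e h.1, (TStructure.t.bounded).prop_of_iso e h.2⟩
  shift {X} n h := ⟨(stable_cohIn P).shift n h.1, (TStructure.t.bounded).le_shift n X h.2⟩
  zero {X} hX := ⟨(stable_cohIn P).zero hX, by
    obtain ⟨Z, hZ, hPZ⟩ := (TStructure.t (C := A)).bounded.exists_prop_of_containsZero
    exact (TStructure.t.bounded).prop_of_iso (hZ.iso hX) hPZ⟩
  ext T hT h₁ h₃ := ⟨(stable_cohIn P).ext T hT h₁.1 h₃.1,
    (TStructure.t.bounded).ext_of_isTriangulatedClosed₂ T hT h₁.2 h₃.2⟩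

/-- essential image on bounded objects -/
theorem exists_preimage (Q : ObjectProperty B) [WSerre.IsWeakSerre Q]
    (h : ∀ M N : A, P M → P N → ∀ n : ℤ, Bij Φ (sgl M) ((sgl N)⟦n⟧))
    (hsurj : ∀ N : B, Q N → ∃ M : A, P M ∧ Nonempty (Φ.obj (sgl M) ≅ sgl N))
    {Y : DerivedCategory B} (hY : WSerre.cohInBdd Q Y) :
    ∃ K, WSerre.cohInBdd P K ∧ Nonempty (Φ.obj K ≅ Y) := by
  obtain ⟨hY₀, ⟨a, ha⟩, ⟨b, hb⟩⟩ := hY
  have hst : Stable fun Y => ∃ K, WSerre.cohInBdd P K ∧ Nonempty (Φ.obj K ≅ Y) :=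
    { iso := fun e ⟨K, hK, ⟨i⟩⟩ => ⟨K, hK, ⟨i ≪≫ e⟩⟩
      shift := fun n ⟨K, hK, ⟨i⟩⟩ => ⟨K⟦n⟧, (stable_cohInBdd P).shift n hK,
        ⟨(Φ.commShiftIso n).app K ≪≫ (shiftFunctor _ n).mapIso i⟩⟩
      zero := fun hX => ⟨0, (stable_cohInBdd P).zero (isZero_zero _),
        ⟨(Φ.map_isZero (isZero_zero _)).iso hX⟩⟩
      ext := fun T hT ⟨K₁, hK₁, ⟨i₁⟩⟩ ⟨K₃, hK₃, ⟨i₃⟩⟩ => by
        obtain ⟨g, hg⟩ := (bij_of_bounded Φ P h hK₃ ((stable_cohInBdd P).shift 1 hK₁)).2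
          (i₃.hom ≫ T.mor₃ ≫ i₁.inv⟦(1 : ℤ)⟧' ≫ (Φ.commShiftIso (1 : ℤ)).inv.app K₁)
        obtain ⟨K₂, a, b, hK⟩ := distinguished_cocone_triangle₂ g
        refine ⟨K₂, (stable_cohInBdd P).ext _ hK hK₁ hK₃, ⟨?_⟩⟩
        refine Triangle.π₂.mapIso (isoTriangleOfIso₁₃ _ _ (Φ.map_distinguished _ hK) hT i₁ i₃ ?_)
        change (Φ.map g ≫ (Φ.commShiftIso (1 : ℤ)).hom.app K₁) ≫ i₁.hom⟦(1 : ℤ)⟧' = i₃.hom ≫ T.mor₃
        rw [hg]
        simp [← Functor.map_comp] }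
  exact stable_of_bounded hst (b + 1 - a).toNat Y a b (by omega) ha hb fun i => by
    obtain ⟨M, hM, e⟩ := hsurj _ (hY₀ i)
    refine ⟨sgl M, ⟨fun j => ?_, ⟨0, inferInstance⟩, ⟨0, inferInstance⟩⟩, e⟩
    by_cases hj : j = 0
    · subst hj
      exact P.prop_of_iso (singleHomologyIso M 0).symm hM
    · obtain ⟨Z, hZ, hPZ⟩ := P.exists_prop_of_containsZero
      refine P.prop_of_iso (hZ.iso ?_) hPZ
      rcases lt_or_gt_of_ne hj with hlt | hgt
      · exact isZero_of_isGE _ 0 _ hlt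
      · exact isZero_of_isLE _ 0 _ hgt

end Groth.Agent.WayOut
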